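import Mathlib
import Groth.Agent.Lib.Helper5.TorAmp.FlatAcyc

/-!
# Termwise natural transformations `𝟭 ⟶ Φ` on cochain complexes and their effect on homology
-/

set_option autoImplicit false
universe w v u
open CategoryTheory CategoryTheory.Limits

namespace Helper5.FG

variable {C : Type u} [Category.{v} C] [Abelian C] (Φ : C ⥤ C) [Φ.Additive]
  (τ : 𝟭 C ⟶ Φ)

/-- components of `τ` with clean types -/
def tapp (X : C) : X ⟶ Φ.obj X := τ.app X

lemma tapp_naturality {X Y : C} (f : X ⟶ Y) : f ≫ tapp Φ τ Y = tapp Φ τ X ≫ Φ.map f :=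
  τ.naturality f

/-- the termwise natural transformation -/
@[simps]
def tauC (K : CochainComplex C ℤ) :
    K ⟶ (Φ.mapHomologicalComplex (ComplexShape.up ℤ)).obj K where
  f i := tapp Φ τ (K.X i)
  comm' i j _ := (tapp_naturality Φ τ (K.d i j)).symm

lemma tauC_naturality {K K' : CochainComplex C ℤ} (g : K ⟶ K') :
    g ≫ tauC Φ τ K' = tauC Φ τ K ≫ (Φ.mapHomologicalComplex (ComplexShape.up ℤ)).map g := by
  ext i
  dsimp
  exact tapp_naturality Φ τ (g.f i)

variable [Φ.PreservesHomology]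

/-- `τ` evaluated on a short complex -/
@[simps]
def tauS (S : ShortComplex C) : S ⟶ S.map Φ where
  τ₁ := tapp Φ τ S.X₁
  τ₂ := tapp Φ τ S.X₂
  τ₃ := tapp Φ τ S.X₃
  comm₁₂ := (tapp_naturality Φ τ S.f).symm
  comm₂₃ := (tapp_naturality Φ τ S.g).symm

/-- the left homology map data of `tauS` -/
noncomputable def lhmd (S : ShortComplex C) (h : S.LeftHomologyData) :
    ShortComplex.LeftHomologyMapData (tauS Φ τ S) h (h.map Φ) where
  φK := tapp Φ τ h.K
  φH := tapp Φ τ h.H
  commi := (tapp_naturality Φ τ h.i).symm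
  commf' := by
    rw [ShortComplex.LeftHomologyData.map_f']
    exact tapp_naturality Φ τ h.f'
  commπ := tapp_naturality Φ τ h.π

/-- homology commutes with `Φ` -/
noncomputable def homIso (K : CochainComplex C ℤ) (j : ℤ) :
    ((Φ.mapHomologicalComplex (ComplexShape.up ℤ)).obj K).homology j ≅ Φ.obj (K.homology j) :=
  ((K.sc j).leftHomologyData.map Φ).homologyIso ≪≫
    Φ.mapIso (K.sc j).leftHomologyData.homologyIso.symm

lemma homologyMap_tauC (K : CochainComplex C ℤ) (j : ℤ) :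
    HomologicalComplex.homologyMap (tauC Φ τ K) j ≫ (homIso Φ K j).hom =
      tapp Φ τ (K.homology j) := by
  have h1 : (HomologicalComplex.shortComplexFunctor C (ComplexShape.up ℤ) j).map (tauC Φ τ K) =
      tauS Φ τ (K.sc j) := by
    ext <;> rfl
  have h2 := (lhmd Φ τ (K.sc j) (K.sc j).leftHomologyData).homologyMap_eq
  have h3 : HomologicalComplex.homologyMap (tauC Φ τ K) j =
      ShortComplex.homologyMap (tauS Φ τ (K.sc j)) := by
    rw [← h1]
    rfl
  rw [h3, h2]
  have h4 : (K.sc j).leftHomologyData.homologyIso.inv ≫ tapp Φ τ (K.sc j).homology =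
      tapp Φ τ (K.sc j).leftHomologyData.H ≫ Φ.map (K.sc j).leftHomologyData.homologyIso.inv :=
    tapp_naturality Φ τ (K.sc j).leftHomologyData.homologyIso.inv
  have h5 : (homIso Φ K j).hom = ((K.sc j).leftHomologyData.map Φ).homologyIso.hom ≫
      Φ.map (K.sc j).leftHomologyData.homologyIso.inv := rfl
  have h6 : (lhmd Φ τ (K.sc j) (K.sc j).leftHomologyData).φH =
      tapp Φ τ (K.sc j).leftHomologyData.H := rfl
  have key : ∀ {X Y Z W V : C} (a : X ⟶ Y) (t : Y ⟶ Z) (b : W ≅ Z) (m : Z ⟶ V),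
      (a ≫ t ≫ b.inv) ≫ b.hom ≫ m = a ≫ t ≫ m := by
    intros; simp
  rw [h5, h6]
  refine (key _ _ _ _).trans ?_
  exact (congrArg (fun z => (K.sc j).leftHomologyData.homologyIso.hom ≫ z) h4.symm).trans
    (Iso.hom_inv_id_assoc _ _)

lemma quasiIso_tauC (K : CochainComplex C ℤ)
    (h : ∀ j : ℤ, IsIso (tapp Φ τ (K.homology j))) : QuasiIso (tauC Φ τ K) := by
  rw [quasiIso_iff]
  intro j
  rw [quasiIsoAt_iff_isIso_homologyMap]
  have h1 := homologyMap_tauC Φ τ K j
  have h2 : HomologicalComplex.homologyMap (tauC Φ τ K) j =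
      tapp Φ τ (K.homology j) ≫ (homIso Φ K j).inv := by
    rw [← h1, Category.assoc, Iso.hom_inv_id, Category.comp_id]
  rw [h2]
  haveI := h j
  infer_instance

lemma acyclic_map (K : CochainComplex C ℤ) (h : ∀ j : ℤ, IsZero (Φ.obj (K.homology j))) :
    ∀ j : ℤ, IsZero (((Φ.mapHomologicalComplex (ComplexShape.up ℤ)).obj K).homology j) :=
  fun j => (h j).of_iso (homIso Φ K j)

section Derived

variable [HasDerivedCategory.{w} C]

open DerivedCategory

lemma isZero_Q_of_acyclic (K : CochainComplex C ℤ) (h : ∀ j : ℤ, IsZero (K.homology j)) :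
    IsZero (Q.obj K) := by
  rw [Groth.Agent.Helper5.FlatAcyc.isZero_Q_iff_acyclic]
  intro n
  rw [HomologicalComplex.exactAt_iff_isZero_homology]
  exact h n

/-- `H^j(Q K) ≅ H^j(K)` -/
noncomputable def hQ (K : CochainComplex C ℤ) (j : ℤ) :
    (homologyFunctor C j).obj (Q.obj K) ≅ K.homology j :=
  (homologyFunctorFactors C j).app K

/-- `H^j(Q (Φ K)) ≅ Φ (H^j(K))` -/
noncomputable def hQΦ (K : CochainComplex C ℤ) (j : ℤ) :
    (homologyFunctor C j).obj (Q.obj ((Φ.mapHomologicalComplex (ComplexShape.up ℤ)).obj K)) ≅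
      Φ.obj (K.homology j) :=
  hQ _ j ≪≫ homIso Φ K j

lemma homology_Q_tauC (K : CochainComplex C ℤ) (j : ℤ) :
    (homologyFunctor C j).map (Q.map (tauC Φ τ K)) ≫ (hQΦ Φ K j).hom =
      (hQ K j).hom ≫ tapp Φ τ (K.homology j) := by
  have h1 := homologyFunctorFactors_hom_naturality (tauC Φ τ K) j
  have h2 := homologyMap_tauC Φ τ K j
  show _ ≫ (homologyFunctorFactors C j).hom.app _ ≫ (homIso Φ K j).hom = _
  rw [reassoc_of% h1]
  exact (Category.assoc _ _ _).trans (congrArg (fun z => (homologyFunctorFactors C j).hom.app K ≫ z) h2)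

/-- **orthogonality**: no nonzero maps from a `Φ`-acyclic object to a `Φ`-local one -/
theorem hom_eq_zero (KT K : CochainComplex C ℤ)
    (hT : ∀ j : ℤ, IsZero (Φ.obj (KT.homology j)))
    (hK : IsIso (Q.map (tauC Φ τ K))) (g : Q.obj KT ⟶ Q.obj K) : g = 0 := by
  obtain ⟨K', u, s, hs, rfl⟩ := DerivedCategory.left_fac g
  have hz : IsZero (Q.obj ((Φ.mapHomologicalComplex (ComplexShape.up ℤ)).obj KT)) :=
    isZero_Q_of_acyclic _ (acyclic_map Φ KT hT)
  have h1 : Q.map u ≫ Q.map (tauC Φ τ K') = 0 := by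
    rw [← Functor.map_comp, tauC_naturality, Functor.map_comp]
    rw [hz.eq_of_tgt (Q.map (tauC Φ τ KT)) 0, zero_comp]
  haveI : QuasiIso s := (DerivedCategory.isIso_Q_map_iff_quasiIso (φ := s)).1 hs
  haveI : IsIso (Q.map ((Φ.mapHomologicalComplex (ComplexShape.up ℤ)).map s)) := by
    rw [DerivedCategory.isIso_Q_map_iff_quasiIso]
    infer_instance
  have h2 : Q.map s ≫ Q.map (tauC Φ τ K') =
      Q.map (tauC Φ τ K) ≫ Q.map ((Φ.mapHomologicalComplex (ComplexShape.up ℤ)).map s) := by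
    rw [← Functor.map_comp, ← Functor.map_comp, tauC_naturality]
  haveI : IsIso (Q.map (tauC Φ τ K')) := by
    have h3 : Q.map (tauC Φ τ K') = inv (Q.map s) ≫
        Q.map (tauC Φ τ K) ≫ Q.map ((Φ.mapHomologicalComplex (ComplexShape.up ℤ)).map s) := by
      rw [← h2, IsIso.inv_hom_id_assoc]
    rw [h3]
    infer_instance
  have h4 : Q.map u = 0 := by
    rw [← cancel_mono (Q.map (tauC Φ τ K')), h1, zero_comp]
  rw [h4, zero_comp]

end Derived

end Helper5.FG
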