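import Mathlib
import Groth.Prelude.Def_DRing3
import Groth.Prelude.Def_Wider
import Groth.Agent.Lib.Helper5.FG.Unit
import Groth.Agent.Lib.Helper5.DRing.FlatBC
import Groth.Agent.Lib.Helper5.DMod.HLinear

/-!
# The endofunctor `M ↦ B' ⊗_A M` of `A`-modules and localization away from an element
-/

set_option autoImplicit false
universe u
open CategoryTheory CategoryTheory.Limits TensorProduct

attribute [local instance] HasDerivedCategory.standard

namespace Helper5.FG

open Groth.Agent.Helper5.FlatBC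
open scoped ChangeOfRings

variable {A : Type u} [CommRing A] (B' : Type u) [CommRing B'] [Algebra A B']

/-- `M ↦ B' ⊗_A M` as an endofunctor of `A`-modules -/
noncomputable abbrev Eres : ModuleCat.{u} A ⥤ ModuleCat.{u} A :=
  Ef (R := A) B' ⋙ ModuleCat.restrictScalars (algebraMap A B')

/-- the unit `M → B' ⊗_A M` -/
noncomputable abbrev etaRes : 𝟭 (ModuleCat.{u} A) ⟶ Eres (A := A) B' :=
  (ModuleCat.extendRestrictScalarsAdj (algebraMap A B')).unit

instance [Module.Flat A B'] : (Eres (A := A) B').PreservesHomology := by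
  haveI : (Ef (R := A) B').PreservesHomology := inferInstance
  haveI : (ModuleCat.restrictScalars.{u} (algebraMap A B')).PreservesHomology := inferInstance
  infer_instance

/-- the unit as a linear map -/
noncomputable def etaLin (M : ModuleCat.{u} A) : M →ₗ[A] (Eres (A := A) B').obj M :=
  (tapp (Eres (A := A) B') (etaRes B') M).hom

lemma etaLin_apply (M : ModuleCat.{u} A) (m : M) :
    etaLin B' M m = (1 : B') ⊗ₜ[A, algebraMap A B'] m :=
  ModuleCat.extendRestrictScalarsAdj_unit_app_apply (algebraMap A B') M m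

/-- comparison with the usual tensor product, `A`-linearly -/
noncomputable def eqvA (M : ModuleCat.{u} A) : B' ⊗[A] M ≃ₗ[A] (Eres (A := A) B').obj M :=
  (eqv B' M).restrictScalars A

lemma eqvA_comp_mk (M : ModuleCat.{u} A) :
    (eqvA B' M).toLinearMap ∘ₗ (TensorProduct.mk A B' M 1) = etaLin B' M := by
  ext m
  rw [etaLin_apply]
  rfl

section Away

variable (f : A) [IsLocalization.Away f B']

instance isLocalizedModule_etaLin (M : ModuleCat.{u} A) :
    IsLocalizedModule (Submonoid.powers f) (etaLin B' M) := by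
  haveI : IsLocalization (Submonoid.powers f) B' := inferInstance
  rw [← eqvA_comp_mk]
  exact IsLocalizedModule.of_linearEquiv (Submonoid.powers f) (TensorProduct.mk A B' M 1)
    (eqvA B' M)

end Away

section Generic

variable {M N : Type*} [AddCommGroup M] [AddCommGroup N] [Module A M] [Module A N] (f : A)
  (ℓ : M →ₗ[A] N) [IsLocalizedModule (Submonoid.powers f) ℓ]

include ℓ in
lemma loc_pow_smul_injective (n : ℕ) : Function.Injective (fun y : N => f ^ n • y) := by
  have h := IsLocalizedModule.map_units ℓ (⟨f ^ n, ⟨n, rfl⟩⟩ : Submonoid.powers f)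
  have h2 := ((Module.End.isUnit_iff _).1 h).1
  intro y y' hy
  apply h2
  exact hy

include ℓ in
lemma loc_smul_bijective : Function.Bijective (fun y : N => f • y) := by
  have h := IsLocalizedModule.map_units ℓ (⟨f, Submonoid.mem_powers f⟩ : Submonoid.powers f)
  exact (Module.End.isUnit_iff _).1 h

lemma loc_exists_pow (y : N) : ∃ (n : ℕ) (x : M), ℓ x = f ^ n • y := by
  obtain ⟨⟨x, s⟩, hx⟩ := IsLocalizedModule.surj (Submonoid.powers f) ℓ y
  obtain ⟨n, hn⟩ := s.2
  refine ⟨n, x, ?_⟩
  have hn' : f ^ n = (s : A) := hn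
  rw [hn', ← hx]
  rfl

lemma loc_ker_tors (x : M) (hx : ℓ x = 0) : ∃ n : ℕ, f ^ n • x = 0 := by
  obtain ⟨s, hs⟩ := (IsLocalizedModule.eq_zero_iff (Submonoid.powers f) ℓ).1 hx
  obtain ⟨n, hn⟩ := s.2
  refine ⟨n, ?_⟩
  have hn' : f ^ n = (s : A) := hn
  rw [hn']
  exact hs

include f ℓ in
lemma loc_tors_of_tors (g : A) (h : ∀ x : M, ∃ n : ℕ, g ^ n • x = 0) (y : N) :
    ∃ n : ℕ, g ^ n • y = 0 := by
  obtain ⟨n, x, hx⟩ := loc_exists_pow f ℓ y
  obtain ⟨k, hk⟩ := h x
  refine ⟨k, ?_⟩
  apply loc_pow_smul_injective f ℓ n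
  show f ^ n • g ^ k • y = f ^ n • (0 : N)
  rw [smul_zero, smul_comm, ← hx, ← map_smul, hk, map_zero]

include f ℓ in
lemma loc_subsingleton_of_tors (h : ∀ x : M, ∃ n : ℕ, f ^ n • x = 0) : Subsingleton N := by
  refine ⟨fun y y' => ?_⟩
  have key : ∀ z : N, z = 0 := by
    intro z
    obtain ⟨k, hk⟩ := loc_tors_of_tors f ℓ f h z
    apply loc_pow_smul_injective f ℓ k
    show f ^ k • z = f ^ k • (0 : N)
    rw [hk, smul_zero]
  rw [key y, key y']

lemma loc_bijective_of_bij (h : Function.Bijective (fun x : M => f • x)) :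
    Function.Bijective ℓ := by
  have hpow : ∀ n : ℕ, Function.Bijective (fun x : M => f ^ n • x) := by
    intro n
    induction n with
    | zero =>
      simp only [pow_zero, one_smul]
      exact Function.bijective_id
    | succ n ih =>
      have : (fun x : M => f ^ (n + 1) • x) = (fun x : M => f ^ n • x) ∘ (fun x : M => f • x) := by
        funext x
        simp [pow_succ, mul_smul]
      rw [this]
      exact ih.comp h
  constructor
  · rw [← LinearMap.ker_eq_bot, LinearMap.ker_eq_bot']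
    intro x hx
    obtain ⟨n, hn⟩ := loc_ker_tors f ℓ x hx
    apply (hpow n).1
    show f ^ n • x = f ^ n • (0 : M)
    rw [hn, smul_zero]
  · intro y
    obtain ⟨n, x, hx⟩ := loc_exists_pow f ℓ y
    obtain ⟨x', hx'⟩ := (hpow n).2 x
    refine ⟨x', ?_⟩
    apply loc_pow_smul_injective f ℓ n
    show f ^ n • ℓ x' = f ^ n • y
    rw [← hx, ← map_smul]
    exact congrArg ℓ hx'

end Generic

section AwayCx

open DerivedCategory

variable (f : A) [IsLocalization.Away f B'] [Module.Flat A B']
  (K : CochainComplex (ModuleCat.{u} A) ℤ)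

/-- the map `Q K ⟶ Q (B' ⊗ K)` -/
noncomputable abbrev uQ : Q.obj K ⟶
    Q.obj (((Eres (A := A) B').mapHomologicalComplex (ComplexShape.up ℤ)).obj K) :=
  Q.map (tauC (Eres (A := A) B') (etaRes B') K)

lemma hQΦ_uQ_apply (j : ℤ) (x : (homologyFunctor (ModuleCat.{u} A) j).obj (Q.obj K)) :
    (hQΦ (Eres (A := A) B') K j).hom.hom
        (((homologyFunctor (ModuleCat.{u} A) j).map (uQ B' K)).hom x) =
      etaLin B' (K.homology j) ((hQ K j).hom.hom x) := by
  have h := homology_Q_tauC (Eres (A := A) B') (etaRes B') K j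
  exact congrArg (fun t => t.hom x) h

include f in
lemma ker_tors (j : ℤ) (x : (homologyFunctor (ModuleCat.{u} A) j).obj (Q.obj K))
    (hx : ((homologyFunctor (ModuleCat.{u} A) j).map (uQ B' K)).hom x = 0) :
    ∃ n : ℕ, f ^ n • x = 0 := by
  have h1 := hQΦ_uQ_apply B' K j x
  rw [hx, map_zero] at h1
  obtain ⟨n, hn⟩ := loc_ker_tors f (etaLin B' (K.homology j)) _ h1.symm
  refine ⟨n, ?_⟩
  have h2 : (hQ K j).hom.hom (f ^ n • x) = 0 := by
    rw [map_smul, hn]
  have h3 := congrArg (hQ K j).inv.hom h2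
  rw [map_zero] at h3
  rw [← h3]
  exact (congrArg (fun t => t.hom (f ^ n • x)) (hQ K j).hom_inv_id).symm

include f in
lemma range_pow (j : ℤ)
    (z : (homologyFunctor (ModuleCat.{u} A) j).obj
      (Q.obj (((Eres (A := A) B').mapHomologicalComplex (ComplexShape.up ℤ)).obj K))) :
    ∃ (n : ℕ) (x : (homologyFunctor (ModuleCat.{u} A) j).obj (Q.obj K)),
      ((homologyFunctor (ModuleCat.{u} A) j).map (uQ B' K)).hom x = f ^ n • z := by
  obtain ⟨n, h, hh⟩ := loc_exists_pow f (etaLin B' (K.homology j))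
    ((hQΦ (Eres (A := A) B') K j).hom.hom z)
  refine ⟨n, (hQ K j).inv.hom h, ?_⟩
  have h1 := hQΦ_uQ_apply B' K j ((hQ K j).inv.hom h)
  have h2 : (hQ K j).hom.hom ((hQ K j).inv.hom h) = h :=
    congrArg (fun t => t.hom h) (hQ K j).inv_hom_id
  rw [h2, hh, ← map_smul] at h1
  have h3 := congrArg (hQΦ (Eres (A := A) B') K j).inv.hom h1
  have h4 : ∀ w, (hQΦ (Eres (A := A) B') K j).inv.hom
      ((hQΦ (Eres (A := A) B') K j).hom.hom w) = w :=
    fun w => congrArg (fun t => t.hom w) (hQΦ (Eres (A := A) B') K j).hom_inv_id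
  rw [h4, h4] at h3
  exact h3

include f in
lemma tors_Φ (j : ℤ) (g : A)
    (h : ∀ x : (homologyFunctor (ModuleCat.{u} A) j).obj (Q.obj K), ∃ n : ℕ, g ^ n • x = 0)
    (z : (homologyFunctor (ModuleCat.{u} A) j).obj
      (Q.obj (((Eres (A := A) B').mapHomologicalComplex (ComplexShape.up ℤ)).obj K))) :
    ∃ n : ℕ, g ^ n • z = 0 := by
  have h' : ∀ y : K.homology j, ∃ n : ℕ, g ^ n • y = 0 := by
    intro y
    obtain ⟨n, hn⟩ := h ((hQ K j).inv.hom y)
    refine ⟨n, ?_⟩
    have h2 : (hQ K j).hom.hom ((hQ K j).inv.hom y) = y :=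
      congrArg (fun t => t.hom y) (hQ K j).inv_hom_id
    rw [← h2, ← map_smul, hn, map_zero]
  obtain ⟨n, hn⟩ := loc_tors_of_tors f (etaLin B' (K.homology j)) g h'
    ((hQΦ (Eres (A := A) B') K j).hom.hom z)
  refine ⟨n, ?_⟩
  have h4 : (hQΦ (Eres (A := A) B') K j).inv.hom
      ((hQΦ (Eres (A := A) B') K j).hom.hom (g ^ n • z)) = g ^ n • z :=
    congrArg (fun t => t.hom (g ^ n • z)) (hQΦ (Eres (A := A) B') K j).hom_inv_id
  rw [← h4, map_smul, hn, map_zero]

include f in
lemma isIso_uQ_of_isIso_smul (h : IsIso (f • 𝟙 (Q.obj K))) : IsIso (uQ B' K) := by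
  haveI : QuasiIso (tauC (Eres (A := A) B') (etaRes B') K) := by
    refine quasiIso_tauC _ _ K (fun j => ?_)
    have h1 : IsIso ((homologyFunctor (ModuleCat.{u} A) j).map (f • 𝟙 (Q.obj K))) :=
      inferInstance
    rw [Helper5.DMod.homologyFunctor_map_smul_id] at h1
    have h2 : Function.Bijective
        (fun x : (homologyFunctor (ModuleCat.{u} A) j).obj (Q.obj K) => f • x) :=
      ConcreteCategory.bijective_of_isIso
        (f • 𝟙 ((homologyFunctor (ModuleCat.{u} A) j).obj (Q.obj K)))
    have hb : Function.Bijective (fun y : K.homology j => f • y) := by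
      let e := (hQ K j).toLinearEquiv
      have : (fun y : K.homology j => f • y) =
          e ∘ (fun x : (homologyFunctor (ModuleCat.{u} A) j).obj (Q.obj K) => f • x) ∘ e.symm := by
        funext y
        simp
      rw [this]
      exact e.bijective.comp (h2.comp e.symm.bijective)
    have h3 := loc_bijective_of_bij f (etaLin B' (K.homology j)) hb
    exact (ConcreteCategory.isIso_iff_bijective _).2 h3
  exact (DerivedCategory.isIso_Q_map_iff_quasiIso
    (φ := tauC (Eres (A := A) B') (etaRes B') K)).2 inferInstance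

include f in
lemma isZero_Φ_homology
    (h : ∀ (j : ℤ) (x : (homologyFunctor (ModuleCat.{u} A) j).obj (Q.obj K)),
      ∃ n : ℕ, f ^ n • x = 0) (j : ℤ) :
    IsZero ((Eres (A := A) B').obj (K.homology j)) := by
  have h' : ∀ y : K.homology j, ∃ n : ℕ, f ^ n • y = 0 := by
    intro y
    obtain ⟨n, hn⟩ := h j ((hQ K j).inv.hom y)
    refine ⟨n, ?_⟩
    have h2 : (hQ K j).hom.hom ((hQ K j).inv.hom y) = y :=
      congrArg (fun t => t.hom y) (hQ K j).inv_hom_id
    rw [← h2, ← map_smul, hn, map_zero]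
  haveI := loc_subsingleton_of_tors f (etaLin B' (K.homology j)) h'
  exact ModuleCat.isZero_of_subsingleton _

include f in
lemma isIso_smul_Q_Φ :
    IsIso (f • 𝟙 (Q.obj (((Eres (A := A) B').mapHomologicalComplex
      (ComplexShape.up ℤ)).obj K))) := by
  have h1 : IsIso (f • 𝟙 (((Eres (A := A) B').mapHomologicalComplex
      (ComplexShape.up ℤ)).obj K)) := by
    haveI : ∀ i, IsIso ((f • 𝟙 (((Eres (A := A) B').mapHomologicalComplex
        (ComplexShape.up ℤ)).obj K)).f i) := by
      intro i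
      have hb := loc_smul_bijective f (etaLin B' (K.X i))
      exact (ConcreteCategory.isIso_iff_bijective _).2 hb
    exact HomologicalComplex.Hom.isIso_of_components _
  have h2 : Q.map (f • 𝟙 (((Eres (A := A) B').mapHomologicalComplex
      (ComplexShape.up ℤ)).obj K)) = f • 𝟙 _ := by
    rw [Functor.map_smul, CategoryTheory.Functor.map_id]
  rw [← h2]
  infer_instance

end AwayCx

end Helper5.FG
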