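import Mathlib
import Groth.Prelude.Def_DRing3
import Groth.Prelude.Def_Wider
import Groth.Agent.Lib.Helper5.FG.Loc
import Groth.Agent.Lib.Helper5.RGam.FlatBC

/-!
# Element-power torsion objects of `D(A)` and localization triangles
-/

set_option autoImplicit false
universe u
open CategoryTheory CategoryTheory.Limits Pretriangulated

attribute [local instance] HasDerivedCategory.standard

namespace Helper5.FG

open DerivedCategory Groth.Agent.Helper3.BCDer Groth.Agent.Helper3.BCDual

variable {A : Type u} [CommRing A]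

/-- objects of `D(A)` whose cohomology is `g`-power torsion -/
def ETors (g : A) (X : Dual.D A) : Prop :=
  ∀ (j : ℤ) (x : Dual.HD A X j), ∃ n : ℕ, g ^ n • x = 0

lemma ETors.of_iso {g : A} {X Y : Dual.D A} (e : X ≅ Y) (h : ETors g X) : ETors g Y := by
  intro j y
  let E := ((DerivedCategory.homologyFunctor (ModuleCat.{u} A) j).mapIso e).toLinearEquiv
  obtain ⟨n, hn⟩ := h j (E.symm y)
  refine ⟨n, ?_⟩
  have : E (g ^ n • E.symm y) = g ^ n • y := by rw [map_smul, E.apply_symm_apply]
  rw [← this, hn, map_zero]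

lemma ETors.shift {g : A} {X : Dual.D A} (h : ETors g X) (n : ℤ) : ETors g (X⟦n⟧) := by
  intro j y
  let E : Dual.HD A (X⟦n⟧) j ≃ₗ[A] Dual.HD A X (n + j) :=
    (((DerivedCategory.homologyFunctor (ModuleCat.{u} A) 0).shiftIso n j (n + j) rfl).app
      X).toLinearEquiv
  obtain ⟨k, hk⟩ := h (n + j) (E y)
  refine ⟨k, ?_⟩
  apply E.injective
  rw [map_smul, hk, map_zero]

/-- extension closure -/
theorem ETors.of_triangle {g : A} (T : Triangle (Dual.D A)) (hT : T ∈ distTriang (Dual.D A))
    (h₁ : ETors g T.obj₁) (h₂ : ETors g T.obj₂) : ETors g T.obj₃ := by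
  intro j x
  obtain ⟨a, ha⟩ := h₁ (j + 1) ((HomologySequence.δ T j (j + 1) rfl).hom x)
  have h3 : (HomologySequence.δ T j (j + 1) rfl).hom (g ^ a • x) = 0 := by
    rw [map_smul, ha]
  have hex := HomologySequence.exact₃ T hT j (j + 1) rfl
  rw [ShortComplex.moduleCat_exact_iff] at hex
  obtain ⟨z, hz⟩ := hex (g ^ a • x) h3
  obtain ⟨b, hb⟩ := h₂ j z
  refine ⟨b + a, ?_⟩
  rw [pow_add, mul_smul, ← hz]
  show g ^ b • ((DerivedCategory.homologyFunctor (ModuleCat.{u} A) j).map T.mor₂).hom z = 0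
  rw [← map_smul, hb, map_zero]

/-- the cone of a map with `f`-power torsion kernel and cokernel on cohomology -/
theorem etors_cone {f : A} (T : Triangle (Dual.D A)) (hT : T ∈ distTriang (Dual.D A))
    (hker : ∀ (j : ℤ) (x : Dual.HD A T.obj₁ j),
      ((DerivedCategory.homologyFunctor (ModuleCat.{u} A) j).map T.mor₁).hom x = 0 →
        ∃ n : ℕ, f ^ n • x = 0)
    (hrange : ∀ (j : ℤ) (z : Dual.HD A T.obj₂ j), ∃ (n : ℕ) (x : Dual.HD A T.obj₁ j),
      ((DerivedCategory.homologyFunctor (ModuleCat.{u} A) j).map T.mor₁).hom x = f ^ n • z) :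
    ETors f T.obj₃ := by
  intro j x
  have h1 : ((DerivedCategory.homologyFunctor (ModuleCat.{u} A) (j + 1)).map T.mor₁).hom
      ((HomologySequence.δ T j (j + 1) rfl).hom x) = 0 := by
    have := HomologySequence.δ_comp T hT j (j + 1) rfl
    exact congrArg (fun t => t.hom x) this
  obtain ⟨a, ha⟩ := hker (j + 1) _ h1
  have h3 : (HomologySequence.δ T j (j + 1) rfl).hom (f ^ a • x) = 0 := by
    rw [map_smul, ha]
  have hex := HomologySequence.exact₃ T hT j (j + 1) rfl
  rw [ShortComplex.moduleCat_exact_iff] at hex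
  obtain ⟨z, hz⟩ := hex (f ^ a • x) h3
  obtain ⟨b, x', hx'⟩ := hrange j z
  refine ⟨b + a, ?_⟩
  rw [pow_add, mul_smul, ← hz]
  show f ^ b • ((DerivedCategory.homologyFunctor (ModuleCat.{u} A) j).map T.mor₂).hom z = 0
  rw [← map_smul, ← hx']
  have h4 : (DerivedCategory.homologyFunctor (ModuleCat.{u} A) j).map T.mor₁ ≫
      (DerivedCategory.homologyFunctor (ModuleCat.{u} A) j).map T.mor₂ = 0 := by
    rw [← Functor.map_comp, comp_distTriang_mor_zero₁₂ _ hT, Functor.map_zero]
  exact congrArg (fun t => t.hom x') h4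

/-- the localization triangle `X → X_f → Z → X[1]` -/
theorem exists_loc_triangle (f : A) (K : CochainComplex (ModuleCat.{u} A) ℤ) :
    ∃ (Y Z : Dual.D A) (u : Q.obj K ⟶ Y) (v : Y ⟶ Z) (w : Z ⟶ (Q.obj K)⟦(1 : ℤ)⟧),
      Triangle.mk u v w ∈ distTriang (Dual.D A) ∧ IsIso (f • 𝟙 Y) ∧ ETors f Z ∧
      ∀ g : A, ETors g (Q.obj K) → ETors g Z := by
  haveI : Module.Flat A (Localization.Away f) :=
    IsLocalization.flat (Localization.Away f) (Submonoid.powers f)
  obtain ⟨Z, v, w, hT⟩ := distinguished_cocone_triangle (uQ (Localization.Away f) K)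
  refine ⟨_, Z, uQ (Localization.Away f) K, v, w, hT, isIso_smul_Q_Φ _ f K, ?_, ?_⟩
  · exact etors_cone _ hT (fun j x hx => ker_tors (Localization.Away f) f K j x hx)
      (fun j z => range_pow (Localization.Away f) f K j z)
  · intro g hg
    refine ETors.of_triangle _ hT hg ?_
    intro j z
    exact tors_Φ (Localization.Away f) f K j g (hg j) z

/-- no nonzero maps from an `f`-power torsion object to an object on which `f` is invertible -/
theorem hom_eq_zero_of_etors (f : A) (T W : Dual.D A) (hT : ETors f T)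
    (hW : IsIso (f • 𝟙 W)) (g : T ⟶ W) : g = 0 := by
  haveI : Module.Flat A (Localization.Away f) :=
    IsLocalization.flat (Localization.Away f) (Submonoid.powers f)
  let eT : Q.obj (Q.objPreimage T) ≅ T := Q.objObjPreimageIso T
  let eW : Q.obj (Q.objPreimage W) ≅ W := Q.objObjPreimageIso W
  have hT' : ETors f (Q.obj (Q.objPreimage T)) := hT.of_iso eT.symm
  have hW' : IsIso (f • 𝟙 (Q.obj (Q.objPreimage W))) := by
    have h : f • 𝟙 (Q.obj (Q.objPreimage W)) = eW.hom ≫ (f • 𝟙 W) ≫ eW.inv := by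
      rw [Linear.smul_comp, Linear.comp_smul, Category.id_comp, eW.hom_inv_id]
    rw [h]
    infer_instance
  have key := hom_eq_zero (Eres (A := A) (Localization.Away f)) (etaRes (Localization.Away f))
    (Q.objPreimage T) (Q.objPreimage W)
    (isZero_Φ_homology (Localization.Away f) f _ hT')
    (isIso_uQ_of_isIso_smul (Localization.Away f) f _ hW') (eT.hom ≫ g ≫ eW.inv)
  have h2 : g = eT.inv ≫ (eT.hom ≫ g ≫ eW.inv) ≫ eW.hom := by simp
  rw [h2, key, zero_comp, comp_zero]

section Ideals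

variable (I : Ideal A)

lemma etors_of_ptors {X : Dual.D A} (h : Helper5.RGam.Ptors I X) (g : A) (hg : g ∈ I) :
    ETors g X := by
  intro j x
  obtain ⟨n, hn⟩ := h j x
  exact ⟨n, hn _ (Ideal.pow_mem_pow hg n)⟩

lemma ptors_of_etors (s : Finset A) (hs : Ideal.span (s : Set A) = I) {X : Dual.D A}
    (h : ∀ g ∈ s, ETors g X) : Helper5.RGam.Ptors I X := by
  intro j x
  have hle : I ≤ (Ideal.torsionOf A _ x).radical := by
    rw [← hs, Ideal.span_le]
    intro g hg
    obtain ⟨n, hn⟩ := h g hg j x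
    exact ⟨n, (Ideal.mem_torsionOf_iff x _).2 hn⟩
  have hfg : I.FG := ⟨s, hs⟩
  obtain ⟨n, hn⟩ := Ideal.exists_pow_le_of_le_radical_of_fg hle hfg
  exact ⟨n, fun a ha => (Ideal.mem_torsionOf_iff x a).1 (hn ha)⟩

end Ideals

section BC

variable (B : Type u) [CommRing B] [Algebra A B] [Module.Flat A B]

lemma etors_G {g : A} {X : Dual.D A} (h : ETors g X) :
    ETors (algebraMap A B g) ((G (A := A) B).obj X) := by
  have h1 : Helper5.RGam.Ptors (Ideal.span {g}) X := by
    refine ptors_of_etors (Ideal.span {g}) {g} (by simp) ?_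
    intro g' hg'
    rw [Finset.mem_singleton] at hg'
    rw [hg']
    exact h
  have h2 := Helper5.RGam.ptors_G B (Ideal.span {g}) X h1
  refine etors_of_ptors _ h2 _ ?_
  exact Ideal.mem_map_of_mem _ (Ideal.mem_span_singleton_self g)

end BC

end Helper5.FG
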