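import Mathlib
import Groth.Prelude.Def_DRing3
import Groth.Prelude.Def_Wider
import Groth.Agent.Lib.Helper5.FG.Tri

/-!
# Objects on which flat base change is fully faithful against a fixed source
-/

set_option autoImplicit false
universe u
open CategoryTheory CategoryTheory.Limits Pretriangulated

attribute [local instance] HasDerivedCategory.standard

namespace Helper5.FG

open DerivedCategory Groth.Agent.Helper3.BCDer Groth.Agent.Helper3.BCDual

variable {A : Type u} [CommRing A] (B : Type u) [CommRing B] [Algebra A B] [Module.Flat A B]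

/-- base change is bijective on `Hom(T, X)` -/
def Good (T X : Dual.D A) : Prop :=
  Function.Bijective (fun g : T ⟶ X => (G (A := A) B).map g)

/-- base change is bijective on all `Hom(T, X[n])` -/
def GoodAll (T X : Dual.D A) : Prop := ∀ n : ℤ, Good B T (X⟦n⟧)

variable {B}

lemma Good.of_iso {T X X' : Dual.D A} (e : X ≅ X') (h : Good B T X) : Good B T X' := by
  have : (fun g : T ⟶ X' => (G (A := A) B).map g) =
      (fun k => k ≫ (G (A := A) B).map e.hom) ∘ (fun g : T ⟶ X => (G (A := A) B).map g) ∘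
        (fun g : T ⟶ X' => g ≫ e.inv) := by
    funext g
    simp only [Function.comp_apply, ← Functor.map_comp, Category.assoc, e.inv_hom_id,
      Category.comp_id]
  unfold Good
  rw [this]
  refine Function.Bijective.comp ?_ (h.comp ?_)
  · exact ⟨fun a b hab => (cancel_mono ((G (A := A) B).map e.hom)).1 hab,
      fun k => ⟨k ≫ (G (A := A) B).map e.inv, by
        simp only [Category.assoc, ← Functor.map_comp, e.inv_hom_id,
          CategoryTheory.Functor.map_id, Category.comp_id]⟩⟩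
  · exact ⟨fun a b hab => (cancel_mono e.inv).1 hab,
      fun k => ⟨k ≫ e.hom, by simp⟩⟩

lemma good_of_subsingleton (T X : Dual.D A) [Subsingleton (T ⟶ X)]
    [Subsingleton ((G (A := A) B).obj T ⟶ (G (A := A) B).obj X)] : Good B T X :=
  ⟨fun _ _ _ => Subsingleton.elim _ _, fun k => ⟨0, Subsingleton.elim _ _⟩⟩

lemma GoodAll.shift {T X : Dual.D A} (h : GoodAll B T X) (m : ℤ) : GoodAll B T (X⟦m⟧) := by
  intro n
  exact (h (m + n)).of_iso ((shiftFunctorAdd' (Dual.D A) m n (m + n) rfl).app X)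

lemma GoodAll.of_iso {T X X' : Dual.D A} (e : X ≅ X') (h : GoodAll B T X) : GoodAll B T X' :=
  fun n => (h n).of_iso ((shiftFunctor (Dual.D A) n).mapIso e)

/-- the five lemma -/
theorem good_of_triangle {T : Dual.D A} (Δ : Triangle (Dual.D A)) (hΔ : Δ ∈ distTriang (Dual.D A))
    {W : Dual.D A} (c' : W ⟶ Δ.obj₁) (m : Δ.obj₂ ⟶ W⟦(1 : ℤ)⟧)
    (hΔ' : Triangle.mk c' Δ.mor₁ m ∈ distTriang (Dual.D A))
    (h₁ : Good B T Δ.obj₁) (h₃ : Good B T Δ.obj₃) (h₁' : Good B T (Δ.obj₁⟦(1 : ℤ)⟧))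
    (hW : Good B T W) : Good B T Δ.obj₂ := by
  have hGΔ := (G (A := A) B).map_distinguished _ hΔ
  have hGΔ' := (G (A := A) B).map_distinguished _ hΔ'
  constructor
  · -- injectivity
    have key : ∀ g : T ⟶ Δ.obj₂, (G (A := A) B).map g = 0 → g = 0 := by
      intro g hg
      have e1 : g ≫ Δ.mor₂ = 0 := by
        apply h₃.1
        show (G (A := A) B).map (g ≫ Δ.mor₂) = (G (A := A) B).map 0
        rw [Functor.map_comp, hg, zero_comp, Functor.map_zero]
      obtain ⟨h, hh⟩ := Triangle.coyoneda_exact₂ Δ hΔ g e1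
      have e2 : (G (A := A) B).map h ≫ (G (A := A) B).map Δ.mor₁ = 0 := by
        rw [← Functor.map_comp, ← hh, hg]
      obtain ⟨k', hk''⟩ : ∃ k' : (G (A := A) B).obj T ⟶ (G (A := A) B).obj W,
          (G (A := A) B).map h = k' ≫ (G (A := A) B).map c' :=
        Triangle.coyoneda_exact₂ _ hGΔ' ((G (A := A) B).map h) e2
      obtain ⟨k, hk⟩ := hW.2 k'
      have hk2 : (G (A := A) B).map k = k' := hk
      have e3 : h = k ≫ c' := by
        apply h₁.1
        show (G (A := A) B).map h = (G (A := A) B).map (k ≫ c')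
        rw [Functor.map_comp, hk2]
        exact hk''
      have e4 : c' ≫ Δ.mor₁ = 0 := comp_distTriang_mor_zero₁₂ _ hΔ'
      rw [hh, e3, Category.assoc, e4, comp_zero]
    intro g₁ g₂ hg
    have := key (g₁ - g₂) (by
      rw [Functor.map_sub]
      exact sub_eq_zero.2 hg)
    exact sub_eq_zero.1 this
  · -- surjectivity
    intro g'
    obtain ⟨k, hk⟩ := h₃.2 (g' ≫ (G (A := A) B).map Δ.mor₂)
    have hk : (G (A := A) B).map k = g' ≫ (G (A := A) B).map Δ.mor₂ := hk
    have e1 : k ≫ Δ.mor₃ = 0 := by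
      apply h₁'.1
      show (G (A := A) B).map (k ≫ Δ.mor₃) = (G (A := A) B).map 0
      rw [Functor.map_comp, hk, Category.assoc, ← Functor.map_comp,
        comp_distTriang_mor_zero₂₃ _ hΔ, Functor.map_zero, comp_zero, Functor.map_zero]
    obtain ⟨g₀, hg₀⟩ := Triangle.coyoneda_exact₃ Δ hΔ k e1
    have e2 : (g' - (G (A := A) B).map g₀) ≫ (G (A := A) B).map Δ.mor₂ = 0 := by
      rw [Preadditive.sub_comp, ← Functor.map_comp, ← hg₀, hk, sub_self]
    obtain ⟨h', hh''⟩ : ∃ h' : (G (A := A) B).obj T ⟶ (G (A := A) B).obj Δ.obj₁,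
        g' - (G (A := A) B).map g₀ = h' ≫ (G (A := A) B).map Δ.mor₁ :=
      Triangle.coyoneda_exact₂ _ hGΔ (g' - (G (A := A) B).map g₀) e2
    obtain ⟨h, hh⟩ := h₁.2 h'
    have hh2 : (G (A := A) B).map h = h' := hh
    refine ⟨g₀ + h ≫ Δ.mor₁, ?_⟩
    show (G (A := A) B).map (g₀ + h ≫ Δ.mor₁) = g'
    calc (G (A := A) B).map (g₀ + h ≫ Δ.mor₁)
        = (G (A := A) B).map g₀ + (G (A := A) B).map h ≫ (G (A := A) B).map Δ.mor₁ := by
          rw [Functor.map_add, Functor.map_comp]
      _ = (G (A := A) B).map g₀ + (g' - (G (A := A) B).map g₀) := by rw [hh2, hh'']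
      _ = g' := by abel

theorem GoodAll.of_triangle {T : Dual.D A} (Δ : Triangle (Dual.D A))
    (hΔ : Δ ∈ distTriang (Dual.D A)) (h₁ : GoodAll B T Δ.obj₁) (h₃ : GoodAll B T Δ.obj₃) :
    GoodAll B T Δ.obj₂ := by
  intro n
  have hΔn := Triangle.shift_distinguished Δ hΔ n
  have hΔn' := inv_rot_of_distTriang _ hΔn
  exact good_of_triangle _ hΔn _ _ hΔn' (h₁ n) (h₃ n) ((h₁.shift n) 1) ((h₃.shift n) (-1))

/-- if the second and third vertices of a triangle are good, so is the first -/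
theorem GoodAll.of_triangle₁ {T : Dual.D A} (Δ : Triangle (Dual.D A))
    (hΔ : Δ ∈ distTriang (Dual.D A)) (h₂ : GoodAll B T Δ.obj₂) (h₃ : GoodAll B T Δ.obj₃) :
    GoodAll B T Δ.obj₁ :=
  GoodAll.of_triangle Δ.invRotate (inv_rot_of_distTriang _ hΔ) (h₃.shift (-1)) h₂

end Helper5.FG
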