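import Mathlib
import Groth.Prelude.Def_Wider

/-!
# `T ≅ B ⊗_A T` for `I`-power torsion `T` when `A → B` is flat with `A/I ≅ B/IB`
-/

set_option autoImplicit false
universe u v
open TensorProduct

namespace Helper5.FG

variable {A : Type u} {B : Type u} [CommRing A] [CommRing B] [Algebra A B] (I : Ideal A)

/-- the gluing hypothesis `A/I ≅ B/IB` -/
structure GluePair : Prop where
  surj : Function.Surjective
    ((Ideal.Quotient.mk (I.map (algebraMap A B))).comp (algebraMap A B))
  ker : RingHom.ker ((Ideal.Quotient.mk (I.map (algebraMap A B))).comp (algebraMap A B)) = I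

variable {I}

section Killed

variable {T : Type v} [AddCommGroup T] [Module A T]

/-- elements of `IB` kill `B ⊗ T` when `I` kills `T` -/
lemma tmul_eq_zero_of_mem_map (hT : ∀ a ∈ I, ∀ t : T, a • t = 0) (c : B)
    (hc : c ∈ I.map (algebraMap A B)) (t : T) : c ⊗ₜ[A] t = 0 := by
  refine Submodule.span_induction (p := fun c _ => c ⊗ₜ[A] t = 0) ?_ ?_ ?_ ?_ hc
  · rintro _ ⟨a, ha, rfl⟩
    have : algebraMap A B a ⊗ₜ[A] t = (1 : B) ⊗ₜ[A] (a • t) := by
      rw [TensorProduct.tmul_smul, TensorProduct.smul_tmul', Algebra.smul_def, mul_one]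
    rw [this, hT a ha, TensorProduct.tmul_zero]
  · exact TensorProduct.zero_tmul _ _
  · intro x y _ _ hx hy
    rw [TensorProduct.add_tmul, hx, hy, add_zero]
  · intro b x _ hx
    have : (b • x) ⊗ₜ[A] t = b • (x ⊗ₜ[A] t) := rfl
    rw [this, hx, smul_zero]

variable (h : GluePair (B := B) I)

include h in
lemma mk_surjective_of_killed (hT : ∀ a ∈ I, ∀ t : T, a • t = 0) :
    Function.Surjective (TensorProduct.mk A B T 1) := by
  intro y
  induction y using TensorProduct.induction_on with
  | zero => exact ⟨0, map_zero _⟩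
  | tmul b t =>
    obtain ⟨a, ha⟩ := h.surj (Ideal.Quotient.mk _ b)
    have h1 : b - algebraMap A B a ∈ I.map (algebraMap A B) := by
      rw [← Ideal.Quotient.eq]
      exact ha.symm
    have h2 := tmul_eq_zero_of_mem_map hT _ h1 t
    rw [TensorProduct.sub_tmul, sub_eq_zero] at h2
    refine ⟨a • t, ?_⟩
    rw [h2]
    show (1 : B) ⊗ₜ[A] (a • t) = algebraMap A B a ⊗ₜ[A] t
    rw [TensorProduct.tmul_smul, TensorProduct.smul_tmul', Algebra.smul_def, mul_one]
  | add x y hx hy =>
    obtain ⟨x', hx'⟩ := hx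
    obtain ⟨y', hy'⟩ := hy
    exact ⟨x' + y', by rw [map_add, hx', hy']⟩

include h in
lemma smul_eq_of_mk_eq (hT : ∀ a ∈ I, ∀ t : T, a • t = 0) (a a' : A)
    (haa : Ideal.Quotient.mk (I.map (algebraMap A B)) (algebraMap A B a) =
      Ideal.Quotient.mk (I.map (algebraMap A B)) (algebraMap A B a')) (t : T) :
    a • t = a' • t := by
  have h1 : a - a' ∈ I := by
    rw [← h.ker, RingHom.mem_ker, map_sub, sub_eq_zero]
    exact haa
  have h2 := hT _ h1 t
  rwa [sub_smul, sub_eq_zero] at h2

/-- a set-theoretic lift of `b ∈ B` to `A`, modulo `IB` -/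
noncomputable def liftA (b : B) : A := Classical.choose (h.surj (Ideal.Quotient.mk _ b))

lemma liftA_spec (b : B) : Ideal.Quotient.mk (I.map (algebraMap A B)) (algebraMap A B (liftA h b)) =
    Ideal.Quotient.mk (I.map (algebraMap A B)) b :=
  Classical.choose_spec (h.surj (Ideal.Quotient.mk _ b))

/-- the retraction `B ⊗ T → T` when `I` kills `T` -/
noncomputable def retr (hT : ∀ a ∈ I, ∀ t : T, a • t = 0) : B ⊗[A] T →ₗ[A] T :=
  TensorProduct.lift (LinearMap.mk₂ A (fun b t => liftA h b • t)
    (fun b b' t => by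
      rw [← add_smul]
      apply smul_eq_of_mk_eq h hT
      rw [liftA_spec, map_add, map_add, map_add, liftA_spec, liftA_spec])
    (fun a b t => by
      rw [← mul_smul]
      apply smul_eq_of_mk_eq h hT
      rw [liftA_spec, map_mul, map_mul, liftA_spec, Algebra.smul_def, map_mul])
    (fun b t t' => smul_add _ _ _)
    (fun a b t => smul_comm _ _ _))

lemma retr_one_tmul (hT : ∀ a ∈ I, ∀ t : T, a • t = 0) (t : T) :
    retr h hT ((1 : B) ⊗ₜ[A] t) = t := by
  show liftA h (1 : B) • t = t
  rw [smul_eq_of_mk_eq h hT (liftA h 1) 1 (by rw [liftA_spec, map_one, map_one, map_one]) t, one_smul]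

include h in
lemma mk_bijective_of_killed (hT : ∀ a ∈ I, ∀ t : T, a • t = 0) :
    Function.Bijective (TensorProduct.mk A B T 1) := by
  refine ⟨?_, mk_surjective_of_killed h hT⟩
  intro t t' htt
  have := congrArg (retr h hT) htt
  simpa [retr_one_tmul] using this

end Killed

section Ext

variable [Module.Flat A B] {T : Type v} [AddCommGroup T] [Module A T]

/-- extension closure of the class of modules with `T ≅ B ⊗ T` -/
lemma mk_bijective_of_ext (T' : Submodule A T)
    (h₁ : Function.Bijective (TensorProduct.mk A B T' 1))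
    (h₂ : Function.Bijective (TensorProduct.mk A B (T ⧸ T') 1)) :
    Function.Bijective (TensorProduct.mk A B T 1) := by
  have hinj : Function.Injective (T'.subtype.lTensor B) :=
    Module.Flat.lTensor_preserves_injective_linearMap (M := B) T'.subtype
      (Submodule.injective_subtype T')
  have hex : Function.Exact (T'.subtype.lTensor B) (T'.mkQ.lTensor B) :=
    lTensor_exact B (LinearMap.exact_subtype_mkQ T') (Submodule.mkQ_surjective T')
  constructor
  · rw [← LinearMap.ker_eq_bot, LinearMap.ker_eq_bot']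
    intro t ht
    have h3 : TensorProduct.mk A B (T ⧸ T') 1 (T'.mkQ t) = 0 := by
      have := congrArg (T'.mkQ.lTensor B) ht
      simpa using this
    have h4 : T'.mkQ t = 0 := by
      apply h₂.1
      rw [h3, map_zero]
    have h5 : t ∈ T' := (Submodule.Quotient.mk_eq_zero T').1 h4
    have h6 : T'.subtype.lTensor B (TensorProduct.mk A B T' 1 ⟨t, h5⟩) = 0 := by
      simpa using ht
    have h7 : TensorProduct.mk A B T' 1 ⟨t, h5⟩ = 0 := by
      apply hinj
      rw [h6, map_zero]
    have h8 : (⟨t, h5⟩ : T') = 0 := by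
      apply h₁.1
      rw [h7, map_zero]
    exact congrArg Subtype.val h8
  · intro y
    obtain ⟨t'', ht''⟩ := h₂.2 (T'.mkQ.lTensor B y)
    obtain ⟨t, rfl⟩ := Submodule.mkQ_surjective T' t''
    have h3 : T'.mkQ.lTensor B (y - TensorProduct.mk A B T 1 t) = 0 := by
      rw [map_sub, ← ht'']
      simp
    obtain ⟨z, hz⟩ := (hex _).1 h3
    obtain ⟨t', ht'⟩ := h₁.2 z
    refine ⟨t + (t' : T), ?_⟩
    have h4 : T'.subtype.lTensor B (TensorProduct.mk A B T' 1 t') =
        TensorProduct.mk A B T 1 (t' : T) := by simp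
    rw [map_add, ← h4, ht', hz]
    abel

variable (h : GluePair (B := B) I)

include h in
/-- modules killed by a power of `I` -/
lemma mk_bijective_of_killed_pow (n : ℕ) : ∀ (T : Type v) [AddCommGroup T] [Module A T],
    (∀ a ∈ I ^ n, ∀ t : T, a • t = 0) → Function.Bijective (TensorProduct.mk A B T 1) := by
  induction n with
  | zero =>
    intro T _ _ hT
    have h0 : ∀ t : T, t = 0 := fun t => by
      have := hT 1 (by rw [pow_zero, Ideal.one_eq_top]; trivial) t
      rwa [one_smul] at this
    haveI : Subsingleton T := ⟨fun a b => by rw [h0 a, h0 b]⟩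
    exact ⟨fun a b _ => Subsingleton.elim _ _, fun y => ⟨0, Subsingleton.elim _ _⟩⟩
  | succ n ih =>
    intro T _ _ hT
    let T' : Submodule A T := Submodule.torsionBySet A T I
    refine mk_bijective_of_ext T' ?_ ?_
    · apply mk_bijective_of_killed h
      intro a ha t
      apply Subtype.ext
      have := (Submodule.mem_torsionBySet_iff I t.1).1 t.2 ⟨a, ha⟩
      exact this
    · apply ih
      intro c hc t
      obtain ⟨t, rfl⟩ := Submodule.mkQ_surjective T' t
      show c • T'.mkQ t = 0
      rw [← map_smul]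
      apply (Submodule.Quotient.mk_eq_zero T').2
      rw [Submodule.mem_torsionBySet_iff]
      rintro ⟨a, ha⟩
      show a • c • t = 0
      rw [← mul_smul]
      apply hT
      rw [pow_succ']
      exact Ideal.mul_mem_mul ha hc

include h in
/-- **`T ≅ B ⊗_A T` for `I`-power torsion `T`** -/
theorem mk_bijective_of_powerTorsion (hT : LocCoh.IsPowerTorsion I T) :
    Function.Bijective (TensorProduct.mk A B T 1) := by
  have key : ∀ n : ℕ, Function.Bijective
      (TensorProduct.mk A B (Submodule.torsionBySet A T ((I ^ n : Ideal A) : Set A)) 1) := by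
    intro n
    apply mk_bijective_of_killed_pow h n
    intro a ha t
    apply Subtype.ext
    exact (Submodule.mem_torsionBySet_iff _ t.1).1 t.2 ⟨a, ha⟩
  have hmem : ∀ t : T, ∃ n : ℕ, t ∈ Submodule.torsionBySet A T ((I ^ n : Ideal A) : Set A) := by
    intro t
    obtain ⟨n, hn⟩ := hT t
    refine ⟨n, ?_⟩
    rw [Submodule.mem_torsionBySet_iff]
    rintro ⟨a, ha⟩
    exact hn a ha
  have hinj : ∀ n : ℕ, Function.Injective
      ((Submodule.torsionBySet A T ((I ^ n : Ideal A) : Set A)).subtype.lTensor B) := fun n =>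
    Module.Flat.lTensor_preserves_injective_linearMap (M := B) _ (Submodule.injective_subtype _)
  constructor
  · rw [← LinearMap.ker_eq_bot, LinearMap.ker_eq_bot']
    intro t ht
    obtain ⟨n, hn⟩ := hmem t
    have h6 : (Submodule.torsionBySet A T ((I ^ n : Ideal A) : Set A)).subtype.lTensor B
        (TensorProduct.mk A B _ 1 ⟨t, hn⟩) = 0 := by
      simpa using ht
    have h7 : TensorProduct.mk A B
        (Submodule.torsionBySet A T ((I ^ n : Ideal A) : Set A)) 1 ⟨t, hn⟩ = 0 := by
      apply hinj n
      rw [h6, map_zero]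
    have h8 : (⟨t, hn⟩ : Submodule.torsionBySet A T ((I ^ n : Ideal A) : Set A)) = 0 := by
      apply (key n).1
      rw [h7, map_zero]
    exact congrArg Subtype.val h8
  · intro y
    induction y using TensorProduct.induction_on with
    | zero => exact ⟨0, map_zero _⟩
    | tmul b t =>
      obtain ⟨n, hn⟩ := hmem t
      obtain ⟨t', ht'⟩ := (key n).2 (b ⊗ₜ[A] ⟨t, hn⟩)
      refine ⟨(t' : T), ?_⟩
      have h4 : (Submodule.torsionBySet A T ((I ^ n : Ideal A) : Set A)).subtype.lTensor B
          (TensorProduct.mk A B _ 1 t') = TensorProduct.mk A B T 1 (t' : T) := by simp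
      rw [← h4, ht']
      simp
    | add x y hx hy =>
      obtain ⟨x', hx'⟩ := hx
      obtain ⟨y', hy'⟩ := hy
      exact ⟨x' + y', by rw [map_add, hx', hy']⟩

end Ext

end Helper5.FG
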