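import Mathlib
import Groth.Prelude.Def_DRing3
import Groth.Prelude.Def_Wider
import Groth.Agent.Lib.Helper5.FG.Good
import Groth.Agent.Lib.Helper5.FG.TorsIso
import Groth.Agent.Lib.Helper3.AdjHtpyPlus

/-!
# The derived extension/restriction adjunction for a flat ring map, and the torsion base case
-/

set_option autoImplicit false
universe u
open CategoryTheory CategoryTheory.Limits Pretriangulated

attribute [local instance] HasDerivedCategory.standard

namespace Helper5.FG

open DerivedCategory Groth.Agent.Helper3.BCDer Groth.Agent.Helper3.BCDual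
  Groth.Agent.Helper5.FlatBC Groth.Agent.Helper3.AdjHtpyPlus

variable {A : Type u} [CommRing A] (B : Type u) [CommRing B] [Algebra A B] [Module.Flat A B]

/-- termwise restriction of scalars -/
noncomputable abbrev Rc : DRing.Cx B ⥤ DRing.Cx A :=
  (ModuleCat.restrictScalars.{u} (algebraMap A B)).mapHomologicalComplex (ComplexShape.up ℤ)

/-- the adjunction on complexes -/
noncomputable def adjC : Ec (R := A) B ⊣ Rc (A := A) B :=
  Adjunction.mkOfUnitCounit
    { unit :=
        { app := fun K => unitC (ModuleCat.extendRestrictScalarsAdj (algebraMap A B)) _ K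
          naturality := fun K K' g =>
            unitC_naturality (ModuleCat.extendRestrictScalarsAdj (algebraMap A B)) _ g }
      counit :=
        { app := fun K => counitC (ModuleCat.extendRestrictScalarsAdj (algebraMap A B)) _ K
          naturality := fun K K' g =>
            counitC_naturality (ModuleCat.extendRestrictScalarsAdj (algebraMap A B)) _ g }
      left_triangle := by
        ext K : 2
        exact left_triangleC (ModuleCat.extendRestrictScalarsAdj (algebraMap A B)) _ K
      right_triangle := by
        ext K : 2
        exact right_triangleC (ModuleCat.extendRestrictScalarsAdj (algebraMap A B)) _ K }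

noncomputable instance : CatCommSq (Ec (R := A) B) (Q (C := ModuleCat.{u} A)) (Q (C := ModuleCat.{u} B))
    (G (A := A) B) :=
  ⟨((Ef (R := A) B).mapDerivedCategoryFactors).symm⟩

noncomputable instance : CatCommSq (Rc (A := A) B) (Q (C := ModuleCat.{u} B)) (Q (C := ModuleCat.{u} A))
    (DRing.restrictD (algebraMap A B)) :=
  ⟨((ModuleCat.restrictScalars.{u} (algebraMap A B)).mapDerivedCategoryFactors).symm⟩

/-- the derived adjunction `B ⊗_A − ⊣ restriction` -/
noncomputable def adjD : G (A := A) B ⊣ DRing.restrictD (algebraMap A B) :=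
  (adjC (A := A) B).localization (Q (C := ModuleCat.{u} A))
    (HomologicalComplex.quasiIso (ModuleCat.{u} A) (ComplexShape.up ℤ))
    (Q (C := ModuleCat.{u} B))
    (HomologicalComplex.quasiIso (ModuleCat.{u} B) (ComplexShape.up ℤ))
    (G (A := A) B) (DRing.restrictD (algebraMap A B))

lemma isIso_adjD_unit (K : DRing.Cx A)
    (hK : IsIso (Q.map (unitC (ModuleCat.extendRestrictScalarsAdj (algebraMap A B))
      (ComplexShape.up ℤ) K))) :
    IsIso ((adjD (A := A) B).unit.app (Q.obj K)) := by
  have h := (adjC (A := A) B).localization_unit_app (Q (C := ModuleCat.{u} A))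
    (HomologicalComplex.quasiIso (ModuleCat.{u} A) (ComplexShape.up ℤ))
    (Q (C := ModuleCat.{u} B))
    (HomologicalComplex.quasiIso (ModuleCat.{u} B) (ComplexShape.up ℤ))
    (G (A := A) B) (DRing.restrictD (algebraMap A B)) K
  unfold adjD
  rw [h]
  haveI : IsIso (Q.map ((adjC (A := A) B).unit.app K)) := hK
  infer_instance

variable {B} (I : Ideal A)

lemma ptors_of_iso {X Y : Dual.D A} (e : X ≅ Y) (h : Helper5.RGam.Ptors I X) :
    Helper5.RGam.Ptors I Y := fun j =>
  Helper5.RGam.isPowerTorsion_of_equiv I
    ((DerivedCategory.homologyFunctor (ModuleCat.{u} A) j).mapIso e).toLinearEquiv (h j)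

/-- the torsion base case: base change is fully faithful into torsion objects -/
theorem good_of_ptors (h : GluePair (B := B) I) (T X : Dual.D A)
    (hX : Helper5.RGam.Ptors I X) : Good B T X := by
  let K := Q.objPreimage X
  let e : Q.obj K ≅ X := Q.objObjPreimageIso X
  refine Good.of_iso e ?_
  have hK : Helper5.RGam.Ptors I (Q.obj K) := ptors_of_iso I e.symm hX
  have hq : QuasiIso (tauC (Eres (A := A) B) (etaRes B) K) := by
    refine quasiIso_tauC _ _ K (fun j => ?_)
    have h1 : LocCoh.IsPowerTorsion I (K.homology j) :=
      Helper5.RGam.isPowerTorsion_of_equiv I (hQ K j).toLinearEquiv (hK j)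
    have h2 := mk_bijective_of_powerTorsion (B := B) h h1
    have h3 : Function.Bijective (etaLin B (K.homology j)) := by
      rw [← eqvA_comp_mk]
      exact (eqvA B (K.homology j)).bijective.comp h2
    exact (ConcreteCategory.isIso_iff_bijective _).2 h3
  have hq' : QuasiIso (unitC (ModuleCat.extendRestrictScalarsAdj (algebraMap A B))
      (ComplexShape.up ℤ) K) := hq
  have hiso : IsIso (Q.map (unitC (ModuleCat.extendRestrictScalarsAdj (algebraMap A B))
      (ComplexShape.up ℤ) K)) :=
    (DerivedCategory.isIso_Q_map_iff_quasiIso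
      (φ := unitC (ModuleCat.extendRestrictScalarsAdj (algebraMap A B))
        (ComplexShape.up ℤ) K)).2 hq'
  haveI := isIso_adjD_unit B K hiso
  have hfun : (fun g : T ⟶ Q.obj K => (G (A := A) B).map g) =
      fun g => ((adjD (A := A) B).homEquiv T _).symm
        (g ≫ (adjD (A := A) B).unit.app (Q.obj K)) := by
    funext g
    rw [Equiv.eq_symm_apply, Adjunction.homEquiv_unit]
    exact ((adjD (A := A) B).unit.naturality g).symm
  unfold Good
  rw [hfun]
  refine (Equiv.bijective _).comp ⟨fun a b hab => (cancel_mono _).1 hab, fun k => ?_⟩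
  exact ⟨k ≫ inv ((adjD (A := A) B).unit.app (Q.obj K)), by simp⟩

end Helper5.FG
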