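import Mathlib
import Groth.Prelude.Def_DRing3
import Groth.Prelude.Def_Wider
import Groth.Agent.Lib.Helper5.FG.Base

/-!
# Flat base change of `Ext` out of an `I`-power torsion module (S1731)
-/

set_option autoImplicit false
universe u
open CategoryTheory CategoryTheory.Limits Pretriangulated TensorProduct

attribute [local instance] HasDerivedCategory.standard

namespace Helper5.FG

open DerivedCategory Groth.Agent.Helper3.BCDer Groth.Agent.Helper3.BCDual
  Groth.Agent.Helper5.FlatBC

variable {A : Type u} [CommRing A] {B : Type u} [CommRing B] [Algebra A B] [Module.Flat A B]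
  (I : Ideal A)

/-- the local case: both `Hom` groups vanish -/
lemma goodAll_of_isIso_smul (f : A) (hf : f ∈ I) (T : Dual.D A)
    (hT : Helper5.RGam.Ptors I T) (W : Dual.D A) (hW : IsIso (f • 𝟙 W)) : GoodAll B T W := by
  intro n
  haveI := hW
  have hWn : IsIso (f • 𝟙 (W⟦n⟧)) := Helper5.RGam.isIso_smul_shift f W n
  have hTf : ETors f T := etors_of_ptors I hT f hf
  haveI : Subsingleton (T ⟶ W⟦n⟧) :=
    ⟨fun a b => by
      rw [hom_eq_zero_of_etors f T _ hTf hWn a, hom_eq_zero_of_etors f T _ hTf hWn b]⟩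
  haveI : Subsingleton ((G (A := A) B).obj T ⟶ (G (A := A) B).obj (W⟦n⟧)) := by
    have h1 : ETors (algebraMap A B f) ((G (A := A) B).obj T) := etors_G B hTf
    haveI := hWn
    have h2 : IsIso (algebraMap A B f • 𝟙 ((G (A := A) B).obj (W⟦n⟧))) :=
      Helper5.RGam.isIso_smul_G B f (W⟦n⟧)
    exact ⟨fun a b => by
      rw [hom_eq_zero_of_etors _ _ _ h1 h2 a, hom_eq_zero_of_etors _ _ _ h1 h2 b]⟩
  exact good_of_subsingleton _ _

variable (h : GluePair (B := B) I)

include h in
/-- the induction on the generators of `I` -/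
theorem goodAll_of_etors (s : Finset A) (hs : Ideal.span (s : Set A) = I) (T : Dual.D A)
    (hT : Helper5.RGam.Ptors I T) :
    ∀ (l : List A), (∀ f ∈ l, f ∈ s) → ∀ X : Dual.D A,
      (∀ g ∈ s, g ∉ l → ETors g X) → GoodAll B T X := by
  intro l
  induction l with
  | nil =>
    intro _ X hX n
    apply good_of_ptors I h
    exact ptors_of_etors I s hs (fun g hg => (hX g hg (List.not_mem_nil)).shift n)
  | cons f l ih =>
    intro hl X hX
    have hl' : ∀ f' ∈ l, f' ∈ s := fun f' hf' => hl f' (List.mem_cons_of_mem _ hf')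
    have hfI : f ∈ I := by
      rw [← hs]
      exact Ideal.subset_span (hl f List.mem_cons_self)
    let e : Q.obj (Q.objPreimage X) ≅ X := Q.objObjPreimageIso X
    refine GoodAll.of_iso e ?_
    obtain ⟨Y, Z, u, v, w, hΔ, hY, hZf, hZg⟩ := exists_loc_triangle f (Q.objPreimage X)
    refine GoodAll.of_triangle₁ (Triangle.mk u v w) hΔ ?_ ?_
    · exact goodAll_of_isIso_smul I f hfI T hT Y hY
    · apply ih hl' Z
      intro g hg hgl
      by_cases hgf : g = f
      · rw [hgf]
        exact hZf
      · apply hZg g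
        refine (hX g hg ?_).of_iso e.symm
        intro hmem
        rcases List.mem_cons.1 hmem with h1 | h1
        · exact hgf h1
        · exact hgl h1

include h in
/-- base change is fully faithful out of torsion objects -/
theorem goodAll (hI : I.FG) (T : Dual.D A) (hT : Helper5.RGam.Ptors I T) (X : Dual.D A) :
    GoodAll B T X := by
  obtain ⟨s, hs⟩ := hI
  exact goodAll_of_etors I h s hs T hT s.toList (fun f hf => Finset.mem_toList.1 hf) X
    (fun g hg hgl => absurd (Finset.mem_toList.2 hg) hgl)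

omit [Module.Flat A B] in
lemma ptors_inD (M : Type u) [AddCommGroup M] [Module A M] (hM : LocCoh.IsPowerTorsion I M) :
    Helper5.RGam.Ptors I (Dual.inD A M) := by
  intro j
  by_cases hj : j = 0
  · subst hj
    have e : M ≃ₗ[A] Dual.HD A (Dual.inD A M) 0 :=
      ((DerivedCategory.singleFunctorCompHomologyFunctorIso (ModuleCat.{u} A) 0).app
        (ModuleCat.of A M)).symm.toLinearEquiv
    exact Helper5.RGam.isPowerTorsion_of_equiv I e hM
  · have hz : IsZero ((DerivedCategory.homologyFunctor (ModuleCat.{u} A) j).obj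
        (Dual.inD A M)) := by
      rcases lt_or_gt_of_ne hj with h | h
      · exact isZero_of_isGE (Dual.inD A M) 0 j h
      · exact isZero_of_isLE (Dual.inD A M) 0 j h
    haveI := ModuleCat.subsingleton_of_isZero hz
    intro x
    exact ⟨0, fun a _ => Subsingleton.elim _ _⟩

/-- base change of a module placed in degree `0`, with the usual tensor product -/
noncomputable def GinDIso' (M : Type u) [AddCommGroup M] [Module A M] :
    (G (A := A) B).obj (Dual.inD A M) ≅ Dual.inD B (B ⊗[A] M) :=
  GinDIso B M ≪≫ (DerivedCategory.singleFunctor (ModuleCat.{u} B) 0).mapIso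
    (eqvT B M).toModuleIso.symm

/-- conjugation by isomorphisms as an additive equivalence -/
noncomputable def homCongrAdd {C : Type*} [Category C] [Preadditive C] {X X' Y Y' : C}
    (e₁ : X ≅ X') (e₂ : Y ≅ Y') : (X ⟶ Y) ≃+ (X' ⟶ Y') where
  toFun g := e₁.inv ≫ g ≫ e₂.hom
  invFun g := e₁.hom ≫ g ≫ e₂.inv
  left_inv g := by simp
  right_inv g := by simp
  map_add' g g' := by simp

/-- **S1731** -/
theorem main_S1731 (A B : Type u) [CommRing A] [CommRing B] [Algebra A B] [Module.Flat A B]
    (I : Ideal A) (hI : I.FG)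
    (hs : Function.Surjective
      ((Ideal.Quotient.mk (I.map (algebraMap A B))).comp (algebraMap A B)))
    (hk : RingHom.ker ((Ideal.Quotient.mk (I.map (algebraMap A B))).comp (algebraMap A B)) = I)
    (M N : Type u) [AddCommGroup M] [Module A M] [AddCommGroup N] [Module A N]
    (hM : LocCoh.IsPowerTorsion I M) (i : ℤ) :
    Nonempty ((Dual.inD A M ⟶ (Dual.inD A N)⟦i⟧) ≃+
      (Dual.inD B (B ⊗[A] M) ⟶ (Dual.inD B (B ⊗[A] N))⟦i⟧)) := by
  have hg : GluePair (B := B) I := ⟨hs, hk⟩
  have hgood := goodAll I hg hI (Dual.inD A M) (ptors_inD I M hM) (Dual.inD A N) i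
  let E1 : (Dual.inD A M ⟶ (Dual.inD A N)⟦i⟧) ≃+
      ((G (A := A) B).obj (Dual.inD A M) ⟶ (G (A := A) B).obj ((Dual.inD A N)⟦i⟧)) :=
    AddEquiv.ofBijective ((G (A := A) B).mapAddHom) hgood
  let e₂ : (G (A := A) B).obj ((Dual.inD A N)⟦i⟧) ≅ (Dual.inD B (B ⊗[A] N))⟦i⟧ :=
    GshiftIso B (Dual.inD A N) i ≪≫ (shiftFunctor (Dual.D B) i).mapIso (GinDIso' N)
  exact ⟨E1.trans (homCongrAdd (GinDIso' M) e₂)⟩

end Helper5.FG
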